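import Groth.Agent.CGrpExtLib.Represent
import Groth.Agent.SchDesc.FullFaith
import Groth.Agent.ASt.Fib
import Groth.Prelude.Def_AlgSt5
import Mathlib.CategoryTheory.Sites.Canonical
/-!
Sections of the object glued from a family of schemes over the members of a covering sieve.
-/

set_option autoImplicit false
set_option backward.isDefEq.respectTransparency false
set_option backward.isDefEq.respectTransparency.types false

universe u

open CategoryTheory CategoryTheory.Limits AlgebraicGeometry Opposite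

namespace Groth.Agent.BGFpqcLib

variable {S : Scheme.{u}}

/-- The fpqc topology of schemes over `S`. -/
abbrev J (S : Scheme.{u}) : GrothendieckTopology (Over S) := QuotSh.J Scheme.fpqcPrecoverage S

instance subcanonical_J : (J S).Subcanonical :=
  inferInstanceAs (Scheme.fpqcTopology.over S).Subcanonical

/-- Compatible morphisms on a covering sieve glue uniquely. -/
theorem existsUnique_glue {W : Over S} {T : Sieve W} (hT : T ∈ J S W) {Y : Over S}
    (x : ∀ ⦃W' : Over S⦄ (k : W' ⟶ W), T k → (W' ⟶ Y))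
    (hx : ∀ ⦃W' W'' : Over S⦄ (k : W' ⟶ W) (hk : T k) (j : W'' ⟶ W'),
      j ≫ x k hk = x (j ≫ k) (T.downward_closed hk j)) :
    ∃! l : W ⟶ Y, ∀ ⦃W' : Over S⦄ (k : W' ⟶ W) (hk : T k), k ≫ l = x k hk :=
  (GrothendieckTopology.Subcanonical.isSheaf_of_isRepresentable (J := J S) (yoneda.obj Y)) T hT x
    ((Presieve.compatible_iff_sieveCompatible _).2 fun W' W'' k j hk => (hx k hk j).symm)

theorem hom_ext_sieve {W Y : Over S} {T : Sieve W} (hT : T ∈ J S W) {a b : W ⟶ Y}
    (h : ∀ ⦃W' : Over S⦄ (k : W' ⟶ W), T k → k ≫ a = k ≫ b) : a = b :=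
  (existsUnique_glue hT (fun W' k _ => k ≫ a) fun W' W'' k _ j => (Category.assoc _ _ _).symm).unique
    (fun _ _ _ => rfl) fun _ k hk => (h k hk).symm

variable {U : Over S} {R : Sieve U}

/-- A member of a sieve as an object. -/
abbrev mem {W : Over S} (t : W ⟶ U) (ht : R t) : R.arrows.category := ⟨Over.mk t, ht⟩

/-- A factorisation of members of a sieve as a morphism. -/
abbrev memHom {W : Over S} {t : W ⟶ U} {ht : R t} {a : R.arrows.category} (g : W ⟶ a.obj.left)
    (e : g ≫ a.obj.hom = t) : mem t ht ⟶ a :=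
  ObjectProperty.homMk (Over.homMk g e)

/-- Schemes over the members of a sieve, with cartesian transition squares. -/
structure Datum (R : Sieve U) where
  F : R.arrows.category → Over S
  q : ∀ a, F a ⟶ a.obj.left
  map : ∀ {a b : R.arrows.category}, (a ⟶ b) → (F a ⟶ F b)
  cart : ∀ {a b : R.arrows.category} (m : a ⟶ b), IsPullback (map m) (q a) (q b) m.hom.left
  map_comp : ∀ {a b c : R.arrows.category} (m : a ⟶ b) (n : b ⟶ c), map (m ≫ n) = map m ≫ map n

variable {D : Datum R}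

/-- A map to the base with compatible values in the members. -/
structure Pt (D : Datum R) (W : Over S) : Type (u + 1) where
  t : W ⟶ U
  x : ∀ (a : R.arrows.category) (W' : Over S) (h : W' ⟶ W) (g : W' ⟶ a.obj.left),
    h ≫ t = g ≫ a.obj.hom → (W' ⟶ D.F a)
  x_q : ∀ a W' h g e, x a W' h g e ≫ D.q a = g
  x_base : ∀ a W' h g e (W'' : Over S) (j : W'' ⟶ W') e', j ≫ x a W' h g e = x a W'' (j ≫ h) (j ≫ g) e'
  x_map : ∀ a b (m : a ⟶ b) W' h g e e', x a W' h g e ≫ D.map m = x b W' h (g ≫ m.hom.left) e'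

namespace Pt

variable {W : Over S}

theorem ext' {p p' : Pt D W} (ht : p.t = p'.t)
    (hx : ∀ a W' h g e e', p.x a W' h g e = p'.x a W' h g e') : p = p' := by
  obtain ⟨t, x, _, _, _⟩ := p
  obtain ⟨t', x', _, _, _⟩ := p'
  obtain rfl : t = t' := ht
  obtain rfl : x = x' := by
    funext a W' h g e
    exact hx a W' h g e e
  rfl

theorem x_congr {p p' : Pt D W} (he : p = p') {a W' h h' g g'} (hh : h = h') (hg : g = g') (e) (e') :
    p.x a W' h g e = p'.x a W' h' g' e' := by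
  subst he hh hg
  rfl

/-- Restriction. -/
def res {W₂ : Over S} (p : Pt D W) (k : W₂ ⟶ W) : Pt D W₂ where
  t := k ≫ p.t
  x a W' h g e := p.x a W' (h ≫ k) g ((Category.assoc _ _ _).trans e)
  x_q a W' h g e := p.x_q _ _ _ _ _
  x_base a W' h g e W'' j e' := by
    rw [p.x_base a W' _ g _ W'' j (by rw [Category.assoc, Category.assoc, e, Category.assoc])]
    exact x_congr rfl (Category.assoc _ _ _).symm rfl _ _
  x_map a b m W' h g e e' := p.x_map _ _ _ _ _ _ _ _

theorem res_res {W₂ W₃ : Over S} (p : Pt D W) (k : W₂ ⟶ W) (j : W₃ ⟶ W₂) : (p.res k).res j = p.res (j ≫ k) :=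
  ext' (Category.assoc _ _ _).symm fun a W' h g e e' => x_congr rfl (Category.assoc _ _ _) rfl _ _

theorem res_id (p : Pt D W) : p.res (𝟙 W) = p :=
  ext' (Category.id_comp _) fun a W' h g e e' => x_congr rfl (Category.comp_id _) rfl _ _

theorem x_eq_of_res {W₂ : Over S} (p : Pt D W) (k : W₂ ⟶ W) (a : R.arrows.category) (g : W₂ ⟶ a.obj.left)
    (e : 𝟙 W₂ ≫ (p.res k).t = g ≫ a.obj.hom) (e' : k ≫ p.t = g ≫ a.obj.hom) :
    (p.res k).x a W₂ (𝟙 W₂) g e = p.x a W₂ k g e' :=
  x_congr rfl (Category.id_comp k) rfl _ _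

end Pt

/-- The presheaf of points. -/
def ptPsh (D : Datum R) : (Over S)ᵒᵖ ⥤ Type (u + 1) where
  obj W := Pt D W.unop
  map k := ↾fun p => p.res k.unop
  map_id W := by ext p; exact p.res_id
  map_comp k j := by ext p; exact (p.res_res k.unop j.unop).symm

theorem isSheaf_ptPsh (D : Datum R) : Presieve.IsSheaf (J S) (ptPsh D) := by
  intro W T hT p hp
  have hp' : ∀ ⦃W₁ W₂ : Over S⦄ (k : W₁ ⟶ W) (hk : T k) (j : W₂ ⟶ W₁),
      p (j ≫ k) (T.downward_closed hk j) = (p k hk).res j :=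
    fun W₁ W₂ k hk j => ((Presieve.compatible_iff_sieveCompatible p).1 hp k j hk)
  obtain ⟨t, ht, -⟩ := existsUnique_glue hT (fun W' k hk => (p k hk).t)
    fun W' W'' k hk j => (congrArg Pt.t (hp' k hk j)).symm
  have key : ∀ (a : R.arrows.category) (W' : Over S) (h : W' ⟶ W) (g : W' ⟶ a.obj.left),
      h ≫ t = g ≫ a.obj.hom → ∃! x : W' ⟶ D.F a,
        ∀ (W'' : Over S) (j : W'' ⟶ W') (hj : T (j ≫ h)) e,
          j ≫ x = (p (j ≫ h) hj).x a W'' (𝟙 W'') (j ≫ g) e := by
    intro a W' h g e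
    have he : ∀ ⦃W'' : Over S⦄ (j : W'' ⟶ W') (hj : T (j ≫ h)),
        𝟙 W'' ≫ (p (j ≫ h) hj).t = (j ≫ g) ≫ a.obj.hom := fun W'' j hj => by
      rw [Category.id_comp, ← ht _ hj, Category.assoc, Category.assoc, e]
    obtain ⟨x, hx, hxu⟩ := existsUnique_glue ((J S).pullback_stable h hT)
      (fun W'' j hj => (p (j ≫ h) hj).x a W'' (𝟙 W'') (j ≫ g) (he j hj))
      (fun W'' W₃ j hj i => by
        have hh : p ((i ≫ j) ≫ h) ((T.pullback h).downward_closed hj i) = (p (j ≫ h) hj).res i := by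
          rw [← hp' (j ≫ h) hj i]
          congr 1

        rw [(p (j ≫ h) hj).x_base a _ _ _ _ _ i (by simp only [Category.assoc, he j hj]),
          Pt.x_congr hh rfl rfl _ (by
          change 𝟙 W₃ ≫ i ≫ (p (j ≫ h) hj).t = _
          rw [Category.id_comp, ← ht _ hj]
          simp only [Category.assoc, e])]
        exact Pt.x_congr rfl ((Category.comp_id _).trans (Category.id_comp _).symm)
          (Category.assoc _ _ _).symm _ _)
    exact ⟨x, fun W'' j hj e' => hx j hj, fun x' hx' => hxu x' fun W'' j hj => hx' W'' j hj _⟩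
  choose x hx hxu using key
  let q : Pt D W :=
    { t := t
      x := x
      x_q := fun a W' h g e => hom_ext_sieve ((J S).pullback_stable h hT) fun W'' j hj => by
        rw [← Category.assoc, hx a W' h g e W'' j hj (by
          rw [Category.id_comp, ← ht _ hj, Category.assoc, Category.assoc, e]), (p _ hj).x_q]
      x_base := fun a W' h g e W'' j e' => hom_ext_sieve ((J S).pullback_stable (j ≫ h) hT) fun W₃ i hi => by
        have hi' : T ((i ≫ j) ≫ h) := by rw [Category.assoc]; exact hi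
        rw [← Category.assoc,
          hx a W' h g e W₃ (i ≫ j) hi' (by rw [Category.id_comp, ← ht _ hi']; simp [e]),
          hx a W'' (j ≫ h) (j ≫ g) e' W₃ i hi (by rw [Category.id_comp, ← ht _ hi]; simp [e])]
        exact Pt.x_congr (by congr 1) rfl (Category.assoc _ _ _) _ _
      x_map := fun a b m W' h g e e' => hom_ext_sieve ((J S).pullback_stable h hT) fun W'' j hj => by
        rw [← Category.assoc, hx a W' h g e W'' j hj (by rw [Category.id_comp, ← ht _ hj]; simp [e]),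
          hx b W' h (g ≫ m.hom.left) e' W'' j hj (by rw [Category.id_comp, ← ht _ hj]; simp [e']),
          (p _ hj).x_map a b m _ _ _ _ (by rw [Category.id_comp, ← ht _ hj]; simp [e'])]
        exact Pt.x_congr rfl rfl (Category.assoc _ _ _) _ _ }
  refine ⟨q, fun W₁ k hk => Pt.ext' (ht k hk) fun a W' h g e e' => ?_, fun q' hq' => ?_⟩
  · change x a W' (h ≫ k) g _ = (p k hk).x a W' h g e'
    refine (hxu _ _ _ _ _ _ fun W'' j hj e'' => ?_).symm
    have hh : p (j ≫ h ≫ k) hj = (p k hk).res (j ≫ h) := by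
      rw [← hp' k hk (j ≫ h)]
      congr 1

    rw [(p k hk).x_base a W' h g e' W'' j (by rw [Category.assoc, e', Category.assoc]),
      Pt.x_congr hh rfl rfl e'' (by
        change 𝟙 W'' ≫ (j ≫ h) ≫ (p k hk).t = _
        rw [Category.id_comp, Category.assoc, e', Category.assoc])]
    exact Pt.x_congr rfl (Category.id_comp _).symm rfl _ _
  · have ht'' : q'.t = t := hom_ext_sieve hT fun W' k hk => by
      rw [ht k hk, ← hq' k hk]
      rfl
    refine Pt.ext' ht'' fun a W' h g e e' => hxu a W' h g e' _ fun W'' j hj e'' => ?_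
    rw [q'.x_base a W' h g e W'' j (by rw [Category.assoc, e, Category.assoc]),
      Pt.x_congr (hq' (j ≫ h) hj).symm rfl rfl e'' (by
        change 𝟙 W'' ≫ (j ≫ h) ≫ q'.t = _
        rw [Category.id_comp, Category.assoc, e, Category.assoc])]
    exact Pt.x_congr rfl (Category.id_comp _).symm rfl _ _

/-- The lift of a map to the source of a morphism of members. -/
noncomputable def lft {a b : R.arrows.category} (m : a ⟶ b) {W : Over S} (l : W ⟶ D.F b) (g : W ⟶ a.obj.left)
    (e : l ≫ D.q b = g ≫ m.hom.left) : W ⟶ D.F a :=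
  (D.cart m).lift l g e

theorem lft_map {a b : R.arrows.category} (m : a ⟶ b) {W : Over S} (l : W ⟶ D.F b) (g : W ⟶ a.obj.left)
    (e : l ≫ D.q b = g ≫ m.hom.left) : lft m l g e ≫ D.map m = l :=
  (D.cart m).lift_fst _ _ _

theorem lft_q {a b : R.arrows.category} (m : a ⟶ b) {W : Over S} (l : W ⟶ D.F b) (g : W ⟶ a.obj.left)
    (e : l ≫ D.q b = g ≫ m.hom.left) : lft m l g e ≫ D.q a = g :=
  (D.cart m).lift_snd _ _ _

theorem eq_lft {a b : R.arrows.category} (m : a ⟶ b) {W : Over S} (l : W ⟶ D.F b) (g : W ⟶ a.obj.left)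
    (e : l ≫ D.q b = g ≫ m.hom.left) (z : W ⟶ D.F a) (h₁ : z ≫ D.map m = l) (h₂ : z ≫ D.q a = g) :
    z = lft m l g e :=
  (D.cart m).hom_ext (h₁.trans (lft_map m l g e).symm) (h₂.trans (lft_q m l g e).symm)

theorem lft_comp {a b : R.arrows.category} (m : a ⟶ b) {W W' : Over S} (j : W' ⟶ W) (l : W ⟶ D.F b)
    (g : W ⟶ a.obj.left) (e : l ≫ D.q b = g ≫ m.hom.left) :
    j ≫ lft m l g e = lft m (j ≫ l) (j ≫ g) (by rw [Category.assoc, e, Category.assoc]) :=
  eq_lft _ _ _ _ _ (by rw [Category.assoc, lft_map]) (by rw [Category.assoc, lft_q])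

/-- A member of the sieve through which two maps to members factor. -/
theorem exists_between {a b : R.arrows.category} {W : Over S} (g : W ⟶ a.obj.left) (g' : W ⟶ b.obj.left)
    (e : g ≫ a.obj.hom = g' ≫ b.obj.hom) :
    ∃ (c : R.arrows.category) (γ : W ⟶ c.obj.left) (m : c ⟶ a) (m' : c ⟶ b),
      γ ≫ m.hom.left = g ∧ γ ≫ m'.hom.left = g' :=
  ⟨mem (g ≫ a.obj.hom) (R.downward_closed a.property g), 𝟙 W, memHom g rfl, memHom g' e.symm,
    Category.id_comp _, Category.id_comp _⟩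

/-- A value in one member extends uniquely to a point. -/
theorem existsUnique_pt (a : R.arrows.category) {W : Over S} (l : W ⟶ D.F a) :
    ∃! p : Pt D W, p.t = (l ≫ D.q a) ≫ a.obj.hom ∧
      ∀ e : 𝟙 W ≫ p.t = (l ≫ D.q a) ≫ a.obj.hom, p.x a W (𝟙 W) (l ≫ D.q a) e = l := by
  let v : W ⟶ a.obj.left := l ≫ D.q a
  let μ : ∀ {W' : Over S} (h : W' ⟶ W) (b : R.arrows.category) (g : W' ⟶ b.obj.left)
      (_ : h ≫ v ≫ a.obj.hom = g ≫ b.obj.hom),
      mem (g ≫ b.obj.hom) (R.downward_closed b.property g) ⟶ a :=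
    fun h b g e => memHom (h ≫ v) ((Category.assoc _ _ _).trans e)
  let ξ : ∀ {W' : Over S} (h : W' ⟶ W) (b : R.arrows.category) (g : W' ⟶ b.obj.left)
      (_ : h ≫ v ≫ a.obj.hom = g ≫ b.obj.hom), W' ⟶ D.F b :=
    fun {W'} h b g e => lft (μ h b g e) (h ≫ l) (𝟙 W')
      ((Category.assoc _ _ _).trans (Category.id_comp _).symm) ≫
        D.map (memHom g rfl : mem (g ≫ b.obj.hom) (R.downward_closed b.property g) ⟶ b)
  have spec : ∀ {W' : Over S} (h : W' ⟶ W) (b : R.arrows.category) (g : W' ⟶ b.obj.left)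
      (e : h ≫ v ≫ a.obj.hom = g ≫ b.obj.hom) (c : R.arrows.category) (γ : W' ⟶ c.obj.left)
      (m : c ⟶ a) (m' : c ⟶ b) (h₁ : γ ≫ m.hom.left = h ≫ v) (_ : γ ≫ m'.hom.left = g),
      ξ h b g e = lft m (h ≫ l) γ ((Category.assoc _ _ _).trans h₁.symm) ≫ D.map m' := by
    intro W' h b g e c γ m m' h₁ h₂
    let n : mem (g ≫ b.obj.hom) (R.downward_closed b.property g) ⟶ c := memHom γ (by
      rw [← h₂, Category.assoc, Over.w m'.hom])
    have hn : n ≫ m' = (memHom g rfl : mem (g ≫ b.obj.hom) (R.downward_closed b.property g) ⟶ b) :=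
      ObjectProperty.hom_ext _ (Over.OverMorphism.ext h₂)
    have hn' : n ≫ m = μ h b g e := ObjectProperty.hom_ext _ (Over.OverMorphism.ext h₁)
    change lft _ _ _ _ ≫ D.map _ = _
    rw [← hn, D.map_comp, ← Category.assoc]
    refine congrArg (· ≫ D.map m') (eq_lft _ _ _ _ _ ?_ ?_)
    · rw [Category.assoc, ← D.map_comp]
      simp only [hn']
      exact lft_map _ _ _ _
    · rw [Category.assoc, (D.cart n).w, ← Category.assoc, lft_q]
      exact Category.id_comp _
  have mkp : ∃ p : Pt D W, ∃ ht : p.t = v ≫ a.obj.hom, ∀ b W' h g e,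
      p.x b W' h g e = ξ h b g ((congrArg (h ≫ ·) ht.symm).trans e) := by
    refine ⟨{ t := v ≫ a.obj.hom
              x := fun b W' h g e => ξ h b g e
              x_q := fun b W' h g e => ?_
              x_base := fun b W' h g e W'' j e' => ?_
              x_map := fun b b' m W' h g e e' => ?_ }, rfl, fun _ _ _ _ _ => rfl⟩
    · change (lft _ _ _ _ ≫ D.map _) ≫ _ = _
      rw [Category.assoc, (D.cart _).w, ← Category.assoc, lft_q]
      exact Category.id_comp _
    · obtain ⟨c, γ, m, m', h₁, h₂⟩ := exists_between (h ≫ v) g ((Category.assoc _ _ _).trans e)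
      rw [spec h b g e c γ m m' h₁ h₂, spec (j ≫ h) b (j ≫ g) e' c (j ≫ γ) m m'
        (by rw [Category.assoc, h₁, Category.assoc]) (by rw [Category.assoc, h₂]), ← Category.assoc, lft_comp]
      congr 1
      
    · obtain ⟨c, γ, μ₁, m', h₁, h₂⟩ := exists_between (h ≫ v) g ((Category.assoc _ _ _).trans e)
      rw [spec h b g e c γ μ₁ m' h₁ h₂, spec h b' (g ≫ m.hom.left) e' c γ μ₁ (m' ≫ m) h₁
        (by rw [← h₂, Category.assoc]; rfl), D.map_comp, Category.assoc]
  obtain ⟨p, hpt, hpx⟩ := mkp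
  refine ⟨p, ⟨hpt, fun e => ?_⟩, fun q hq => ?_⟩
  · rw [hpx, spec (𝟙 W) a v _ a v (𝟙 a) (𝟙 a) ((Category.comp_id v).trans (Category.id_comp v).symm)
      (Category.comp_id v)]
    · exact (lft_map _ _ _ _).trans (Category.id_comp l)
    · exact Category.id_comp _
  · refine Pt.ext' (hq.1.trans hpt.symm) fun b W' h g e e' => ?_
    have e₁ : h ≫ v ≫ a.obj.hom = g ≫ b.obj.hom := (congrArg (h ≫ ·) hq.1.symm).trans e
    obtain ⟨c, γ, m, m', h₁, h₂⟩ := exists_between (h ≫ v) g ((Category.assoc _ _ _).trans e₁)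
    rw [hpx, spec h b g e₁ c γ m m' h₁ h₂]
    have e3 : h ≫ q.t = (γ ≫ m.hom.left) ≫ a.obj.hom := by rw [h₁, Category.assoc, hq.1]
    have hc : h ≫ q.t = γ ≫ c.obj.hom := by rw [e3, Category.assoc, Over.w m.hom]
    have e2 : h ≫ q.t = (γ ≫ m'.hom.left) ≫ b.obj.hom := by rw [h₂]; exact e
    rw [Pt.x_congr (p := q) rfl rfl h₂.symm e e2, ← q.x_map c b m' W' h γ hc e2]
    refine congrArg (· ≫ D.map m') (eq_lft _ _ _ _ _ ?_ (q.x_q _ _ _ _ _))
    have e0 : 𝟙 W ≫ q.t = v ≫ a.obj.hom := by rw [Category.id_comp]; exact hq.1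
    rw [q.x_map c a m W' h γ hc e3]
    have e4 := q.x_base a W (𝟙 W) v e0 W' h (by rw [Category.comp_id, hq.1, Category.assoc]; exact (Category.assoc _ _ _).symm)
    rw [hq.2 e0] at e4
    exact (Pt.x_congr rfl (Category.comp_id h).symm h₁ _ _).trans e4.symm

/-- The point of a value in one member. -/
noncomputable def ptOf (a : R.arrows.category) {W : Over S} (l : W ⟶ D.F a) : Pt D W :=
  (existsUnique_pt a l).choose

theorem ptOf_t (a : R.arrows.category) {W : Over S} (l : W ⟶ D.F a) :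
    (ptOf a l).t = (l ≫ D.q a) ≫ a.obj.hom :=
  (existsUnique_pt a l).choose_spec.1.1

theorem ptOf_x (a : R.arrows.category) {W : Over S} (l : W ⟶ D.F a) (e) :
    (ptOf a l).x a W (𝟙 W) (l ≫ D.q a) e = l :=
  (existsUnique_pt a l).choose_spec.1.2 e

theorem eq_ptOf (a : R.arrows.category) {W : Over S} (l : W ⟶ D.F a) (p : Pt D W) (g : W ⟶ a.obj.left)
    (hg : p.t = g ≫ a.obj.hom) (e : 𝟙 W ≫ p.t = g ≫ a.obj.hom) (hl : p.x a W (𝟙 W) g e = l) :
    p = ptOf a l := by
  obtain rfl : g = l ≫ D.q a := by rw [← hl, p.x_q]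
  exact (existsUnique_pt a l).choose_spec.2 p ⟨hg, fun _ => hl⟩

theorem ptOf_res (a : R.arrows.category) {W W' : Over S} (l : W ⟶ D.F a) (j : W' ⟶ W) :
    (ptOf a l).res j = ptOf a (j ≫ l) := by
  have ht : ((ptOf a l).res j).t = (j ≫ l ≫ D.q a) ≫ a.obj.hom := by
    change j ≫ (ptOf a l).t = _
    rw [ptOf_t, Category.assoc j]
  refine eq_ptOf a _ _ _ ht ((Category.id_comp _).trans ht) ?_
  have e₀ : 𝟙 W ≫ (ptOf a l).t = (l ≫ D.q a) ≫ a.obj.hom := by rw [Category.id_comp, ptOf_t]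
  have h := (ptOf a l).x_base a W (𝟙 W) (l ≫ D.q a) e₀ W' j (by
    rw [Category.comp_id, ptOf_t]; simp only [Category.assoc])
  rw [ptOf_x] at h
  change (ptOf a l).x a W' (𝟙 W' ≫ j) _ _ = _
  exact (Pt.x_congr rfl ((Category.id_comp j).trans (Category.comp_id j).symm) rfl _ _).trans h.symm

theorem ptOf_injective (a : R.arrows.category) {W : Over S} {l l' : W ⟶ D.F a} (h : ptOf a l = ptOf a l')
    (hq : l ≫ D.q a = l' ≫ D.q a) : l = l' := by
  have e : 𝟙 W ≫ (ptOf a l).t = (l ≫ D.q a) ≫ a.obj.hom := by rw [Category.id_comp, ptOf_t]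
  have e' : 𝟙 W ≫ (ptOf a l').t = (l' ≫ D.q a) ≫ a.obj.hom := by rw [Category.id_comp, ptOf_t]
  rw [← ptOf_x a l e, ← ptOf_x a l' e']
  exact Pt.x_congr h rfl hq _ _

theorem ptOf_map {a b : R.arrows.category} (m : a ⟶ b) {W : Over S} (l : W ⟶ D.F a) :
    ptOf b (l ≫ D.map m) = ptOf a l := by
  have hq : (l ≫ D.map m) ≫ D.q b = (l ≫ D.q a) ≫ m.hom.left := by
    rw [Category.assoc, (D.cart m).w, Category.assoc]
  have ht : (ptOf a l).t = ((l ≫ D.q a) ≫ m.hom.left) ≫ b.obj.hom := by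
    rw [ptOf_t, Category.assoc _ m.hom.left, Over.w m.hom]
  refine (eq_ptOf b _ _ _ ht ((Category.id_comp _).trans ht) ?_).symm
  have e₀ : 𝟙 W ≫ (ptOf a l).t = (l ≫ D.q a) ≫ a.obj.hom := by rw [Category.id_comp, ptOf_t]
  rw [← (ptOf a l).x_map a b m W (𝟙 W) (l ≫ D.q a) e₀ ((Category.id_comp _).trans ht), ptOf_x]

end Groth.Agent.BGFpqcLib
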