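import Groth.Agent.BGFpqcLib.Glue
import Groth.Agent.CGrpExtLib.Extension
/-!
The points of a datum of schemes affine over the members of a covering sieve are represented by a scheme.
-/

set_option autoImplicit false
set_option backward.isDefEq.respectTransparency false
set_option backward.isDefEq.respectTransparency.types false

universe u

open CategoryTheory CategoryTheory.Limits AlgebraicGeometry Opposite

namespace Groth.Agent.BGFpqcLib

variable {S : Scheme.{u}} {U : Over S} {R : Sieve U} {D : Datum R}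

theorem hom_ext_empty {A B : Over S} [IsEmpty A.left] (f g : A ⟶ B) : f = g :=
  Over.OverMorphism.ext (SchDesc.hom_ext_of_isEmpty _ _)

/-- A covering sieve contains a family of morphisms with fpqc coproduct. -/
theorem exists_family (hR : R ∈ J S U) :
    ∃ (ι : Type u) (X : ι → Scheme.{u}) (f : ∀ i, X i ⟶ U.left),
      Presieve.ofArrows X f ∈ Scheme.fpqcPrecoverage U.left ∧
      ∀ i, R (Over.homMk (f i) rfl : Over.mk (f i ≫ U.hom) ⟶ U) := by
  change _ ∈ (Scheme.fpqcPrecoverage.toGrothendieck.over S) U at hR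
  rw [GrothendieckTopology.mem_over_iff, Precoverage.mem_toGrothendieck_iff_of_isStableUnderComposition] at hR
  obtain ⟨R', hR', hle⟩ := hR
  obtain ⟨J₀, Y, f, rfl⟩ := R'.exists_eq_ofArrows
  let E0 : PreZeroHypercover U.left := { I₀ := J₀, X := Y, f := f }
  obtain ⟨hq0, hfl⟩ := (HTopV.mem_fpqc_iff E0).mp hR'
  haveI := hq0
  let E := QuasiCompactCover.ulift E0
  have hE : E.presieve₀ ∈ Scheme.fpqcPrecoverage U.left :=
    (HTopV.mem_fpqc_iff E).mpr ⟨inferInstanceAs (QuasiCompactCover (QuasiCompactCover.ulift E0)), fun i => hfl _⟩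
  refine ⟨E.I₀, E.X, E.f, hE, fun i => ?_⟩
  have hi := hle _ _ (Presieve.ofArrows.mk _ : Presieve.ofArrows Y f (E.f i))
  rw [Sieve.overEquiv_iff] at hi
  exact hi

set_option maxHeartbeats 1000000 in
/-- The glued scheme. -/
theorem exists_rep (hR : R ∈ J S U) (haff : ∀ a, IsAffineHom (D.q a).left) :
    ∃ (X : Over S) (b : X ⟶ U) (ψ : Pt D X) (ι : ∀ a, D.F a ⟶ X), IsAffineHom b.left ∧ ψ.t = b ∧
      (∀ W : Over S, Function.Bijective (fun w : W ⟶ X => ψ.res w)) ∧
      (∀ a, ψ.res (ι a) = ptOf a (𝟙 _)) ∧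
      ∀ a, IsPullback (ι a) (D.q a) b a.obj.hom := by
  obtain ⟨I, Xs, f, hf, hfR⟩ := exists_family hR
  let Ti : I → Over S := fun i => Over.mk (f i ≫ U.hom)
  let ci : ∀ i, Ti i ⟶ U := fun i => Over.homMk (f i) rfl
  let ai : I → R.arrows.category := fun i => mem (ci i) (hfR i)
  let T : Over S := Over.mk (Sigma.desc f ≫ U.hom)
  let c : T ⟶ U := Over.homMk (Sigma.desc f) rfl
  haveI : SchDesc.IsFpqc c.left := SchDesc.isFpqc_sigmaDesc (X := Xs) (f := f) hf
  let ji : ∀ i, Ti i ⟶ T := fun i => Over.homMk (Sigma.ι Xs i) (by simp [T, Ti])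
  have hjc : ∀ i, ji i ≫ c = ci i := fun i => Over.OverMorphism.ext (Sigma.ι_desc f i)
  have hcov : Sieve.generate (Presieve.ofArrows Ti ji) ∈ J S T := by
    change _ ∈ (Scheme.fpqcPrecoverage.toGrothendieck.over S) T
    rw [GrothendieckTopology.mem_over_iff]
    refine Scheme.fpqcPrecoverage.toGrothendieck.superset_covering ?_
      (Precoverage.generate_mem_toGrothendieck (Scheme.zariskiPrecoverage_le_fpqcPrecoverage _
        (sigmaOpenCover Xs).mem₀))
    rintro W h ⟨_, k, _, ⟨i⟩, rfl⟩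
    rw [Sieve.overEquiv_iff]
    exact ⟨Ti i, Over.homMk k (by
      change k ≫ f i ≫ U.hom = _
      exact (congrArg (k ≫ ·) ((congrArg (· ≫ U.hom) (Sigma.ι_desc f i).symm).trans
        (Category.assoc _ _ _))).trans (Category.assoc _ _ _).symm), ji i, ⟨i⟩, Over.OverMorphism.ext rfl⟩
  have hdisj : ∀ {W : Over S} {i j : I} (g : W ⟶ Ti i) (g' : W ⟶ Ti j), g ≫ ji i = g' ≫ ji j →
      ¬ IsEmpty W.left → i = j ∧ HEq g g' := by
    intro W i j g g' e hne
    rcases SchDesc.isEmpty_or_eq (V := Xs) g.left g'.left (congrArg CommaMorphism.left e) with h | h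
    · exact absurd h hne
    · subst h
      exact ⟨rfl, heq_of_eq (Over.OverMorphism.ext ((cancel_mono (Sigma.ι Xs i)).1 (congrArg CommaMorphism.left e)))⟩
  let Fi : I → Scheme.{u} := fun i => (D.F (ai i)).left
  let V : Over S := Over.mk (Sigma.desc fun i => (D.F (ai i)).hom)
  let jV : ∀ i, D.F (ai i) ⟶ V := fun i => Over.homMk (Sigma.ι Fi i) (Sigma.ι_desc _ i)
  let a : V ⟶ T := Over.homMk (Limits.Sigma.map fun i => (D.q (ai i)).left) (Sigma.hom_ext _ _ fun i => by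
    simp only [V, T, Over.mk_hom, Sigma.ι_desc, Limits.Sigma.ι_map_assoc]
    rw [Sigma.ι_desc_assoc]
    exact Over.w (D.q (ai i)))
  have hsq : ∀ i, Sigma.ι Fi i ≫ a.left = (D.q (ai i)).left ≫ Sigma.ι Xs i := fun i =>
    Limits.Sigma.ι_map (fun i => (D.q (ai i)).left) i
  have hpi : ∀ i, IsPullback (Sigma.ι Fi i) (D.q (ai i)).left a.left (Sigma.ι Xs i) := by
    intro i
    refine IsPullback.flip (IsOpenImmersion.isPullback _ _ _ _ (hsq i) ?_)
    refine TopologicalSpace.Opens.ext (Set.ext fun v => ⟨?_, ?_⟩)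
    · rintro ⟨w, hw⟩
      obtain ⟨⟨j, v'⟩, rfl⟩ := (sigmaMk Fi).surjective v
      rw [sigmaMk_mk, ← Scheme.Hom.comp_apply, hsq, Scheme.Hom.comp_apply] at hw
      obtain ⟨rfl, -⟩ := Sigma.mk.inj ((sigmaι_eq_iff _ _ _ _ _).mp hw)
      exact ⟨v', (sigmaMk_mk _ _ _).symm⟩
    · rintro ⟨w, rfl⟩
      exact ⟨(D.q (ai i)).left w, by rw [← Scheme.Hom.comp_apply, ← hsq]; rfl⟩
  have hpio : ∀ i, IsPullback (jV i) (D.q (ai i)) a (ji i) := fun i =>
    IsPullback.of_map_of_faithful (F := Over.forget S) (hpi i)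
  haveI : IsAffineHom a.left := by
    refine IsZariskiLocalAtTarget.of_openCover (P := @IsAffineHom) (sigmaOpenCover Xs) fun i => ?_
    change IsAffineHom (pullback.snd a.left (Sigma.ι Xs i))
    rw [← (hpi i).isoPullback_inv_snd]
    haveI := haff (ai i)
    exact inferInstanceAs (IsAffineHom (_ ≫ (D.q (ai i)).left))
  let Z := ptPsh D
  have hZ := isSheaf_ptPsh D
  have hsing : ∀ {W : Over S} [IsEmpty W.left] (p p' : Pt D W), p = p' := fun p p' =>
    CGrpExtLib.subsingleton_of_isEmpty hZ _ p p'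
  let SV : Sieve V := (Sieve.generate (Presieve.ofArrows Ti ji)).pullback a
  have hSV : SV ∈ J S V := (J S).pullback_stable _ hcov
  have hfac : ∀ {W : Over S} (k : W ⟶ V), SV k → ∃ (i : I) (l : W ⟶ D.F (ai i)), l ≫ jV i = k := by
    rintro W k ⟨_, g, _, ⟨i⟩, e⟩
    exact ⟨i, (hpio i).lift k g e.symm, (hpio i).lift_fst _ _ _⟩
  choose iOf lOf hlOf using @hfac
  have hval : ∀ {W : Over S} {i j : I} (l : W ⟶ D.F (ai i)) (l' : W ⟶ D.F (ai j)), l ≫ jV i = l' ≫ jV j →
      ptOf (ai i) l = ptOf (ai j) l' := by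
    intro W i j l l' e
    by_cases hne : IsEmpty W.left
    · exact hsing _ _
    obtain ⟨rfl, h⟩ := hdisj (l ≫ D.q (ai i)) (l' ≫ D.q (ai j)) (by
      rw [Category.assoc, ← (hpio i).w, reassoc_of% e, (hpio j).w, Category.assoc]) hne
    congr 1
    exact (hpio i).hom_ext e (eq_of_heq h)
  obtain ⟨z, hz, -⟩ := hZ SV hSV (fun W k hk => ptOf (ai (iOf k hk)) (lOf k hk))
    ((Presieve.compatible_iff_sieveCompatible _).2 fun W W' k j hk => by
      change _ = Pt.res _ j
      rw [ptOf_res]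
      exact hval _ _ (by rw [hlOf, Category.assoc, hlOf]))
  have hzi : ∀ i, Pt.res z (jV i) = ptOf (ai i) (𝟙 _) := fun i => by
    have hk : SV (jV i) := ⟨_, D.q (ai i), ji i, ⟨i⟩, (hpio i).w.symm⟩
    rw [show Pt.res z (jV i) = _ from hz (jV i) hk]
    exact hval _ _ (by rw [hlOf, Category.id_comp])
  have hzl : ∀ {W : Over S} {i : I} (l : W ⟶ D.F (ai i)), Pt.res z (l ≫ jV i) = ptOf (ai i) l := fun {W i} l => by
    rw [← Pt.res_res, hzi, ptOf_res, Category.comp_id]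
  have hzt : z.t = a ≫ c := hom_ext_sieve hSV fun W k hk => by
    have h := congrArg Pt.t ((hzl (lOf k hk)))
    rw [hlOf] at h
    change k ≫ z.t = _ at h
    rw [h, ptOf_t]
    have h2 := congrArg (· ≫ a ≫ c) (hlOf k hk)
    simp only [Category.assoc, (hpio _).w_assoc, hjc] at h2 ⊢
    exact h2
  have huniv : ∀ (W : Over S) (ζ : Pt D W) (x : W ⟶ T), ζ.t = x ≫ c →
      ∃! v : W ⟶ V, Pt.res z v = ζ ∧ v ≫ a = x := by
    intro W ζ x hx
    let SW : Sieve W := (Sieve.generate (Presieve.ofArrows Ti ji)).pullback x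
    have hSW : SW ∈ J S W := (J S).pullback_stable _ hcov
    have hfx : ∀ {W' : Over S} (k : W' ⟶ W), SW k →
        ∃ (i : I) (g : W' ⟶ Ti i), g ≫ ji i = k ≫ x := by
      rintro W' k ⟨_, g, _, ⟨i⟩, e⟩
      exact ⟨i, g, e⟩
    choose iX gX hgX using @hfx
    have he : ∀ {W' : Over S} (k : W' ⟶ W) {i : I} (g : W' ⟶ Ti i), g ≫ ji i = k ≫ x →
        k ≫ ζ.t = g ≫ (ai i).obj.hom := fun k i g e => by
      rw [hx, ← Category.assoc, ← e, Category.assoc, hjc]
      rfl
    have hv : ∀ {W' : Over S} (k : W' ⟶ W) {i j : I} (g : W' ⟶ Ti i) (g' : W' ⟶ Ti j)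
        (e : g ≫ ji i = k ≫ x) (e' : g' ≫ ji j = k ≫ x),
        ζ.x (ai i) W' k g (he k g e) ≫ jV i = ζ.x (ai j) W' k g' (he k g' e') ≫ jV j := by
      intro W' k i j g g' e e'
      by_cases hne : IsEmpty W'.left
      · exact hom_ext_empty _ _
      obtain ⟨rfl, h⟩ := hdisj g g' (e.trans e'.symm) hne
      obtain rfl := eq_of_heq h
      rfl
    obtain ⟨v, hvk, -⟩ := existsUnique_glue hSW
      (fun W' k hk => ζ.x (ai (iX k hk)) W' k (gX k hk) (he k _ (hgX k hk)) ≫ jV _)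
      (fun W' W'' k hk j => by
        have e1 : (j ≫ gX k hk) ≫ ji _ = (j ≫ k) ≫ x := by rw [Category.assoc, hgX, Category.assoc]
        rw [← Category.assoc, ζ.x_base _ _ _ _ _ _ j (he _ _ e1)]
        exact hv _ _ _ e1 (hgX _ _))
    have hxp : ∀ {W' : Over S} (k : W' ⟶ W) (hk : SW k),
        ptOf (ai (iX k hk)) (ζ.x (ai (iX k hk)) W' k (gX k hk) (he k _ (hgX k hk))) = ζ.res k := by
      intro W' k hk
      refine (eq_ptOf _ _ _ (gX k hk) (he k _ (hgX k hk)) ((Category.id_comp _).trans (he k _ (hgX k hk))) ?_).symm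
      exact Pt.x_congr rfl (Category.id_comp k) rfl _ _
    refine ⟨v, ⟨?_, ?_⟩, fun v' hv' => ?_⟩
    · refine (hZ.isSeparated SW hSW).ext fun W' k hk => ?_
      change Pt.res (Pt.res z v) k = Pt.res ζ k
      rw [Pt.res_res, hvk k hk, hzl, hxp]
    · refine hom_ext_sieve hSW fun W' k hk => ?_
      rw [← Category.assoc, hvk k hk, Category.assoc, (hpio _).w, ← Category.assoc, ζ.x_q, hgX]
    · refine hom_ext_sieve hSW fun W' k hk => ?_
      rw [hvk k hk]
      let l : W' ⟶ D.F (ai (iX k hk)) := (hpio _).lift (k ≫ v') (gX k hk) (by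
        rw [Category.assoc, hv'.2, hgX])
      have hl : l ≫ jV _ = k ≫ v' := (hpio _).lift_fst _ _ _
      rw [← hl]
      refine congrArg (· ≫ jV _) (ptOf_injective _ ?_ ?_)
      · rw [hxp, ← hzl, hl, ← Pt.res_res, hv'.1]
      · rw [ζ.x_q]
        exact (hpio _).lift_snd _ _ _
  obtain ⟨X, b, ψ, π, hb, hψ, -, -, hbij⟩ := CGrpExtLib.exists_representing (Zp := Z) hZ
    (fun W p => p.t) (fun k p => rfl) c a z hzt huniv
  have hι : ∀ s, ∃ w : D.F s ⟶ X, Pt.res ψ w = ptOf s (𝟙 _) := fun s => (hbij _).2 _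
  choose ι hι using hι
  have hψres : ∀ {W : Over S} (w : W ⟶ X), (Pt.res ψ w).t = w ≫ b := fun w => congrArg (w ≫ ·) hψ
  refine ⟨X, b, ψ, ι, hb, hψ, hbij, hι, fun s => ?_⟩
  have hw : ι s ≫ b = D.q s ≫ s.obj.hom := by
    rw [← hψres, hι, ptOf_t, Category.id_comp]
  have hwl : ∀ {W : Over S} (l : W ⟶ D.F s), Pt.res ψ (l ≫ ι s) = ptOf s l := fun {W} l => by
    rw [← Pt.res_res, hι, ptOf_res, Category.comp_id]
  have hlx : ∀ (c' : PullbackCone b s.obj.hom), ∃ l : c'.pt ⟶ D.F s, l ≫ ι s = c'.fst ∧ l ≫ D.q s = c'.snd := by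
    intro c'
    have e : (Pt.res ψ c'.fst).t = c'.snd ≫ s.obj.hom := (hψres _).trans c'.condition
    refine ⟨(Pt.res ψ c'.fst).x s _ (𝟙 _) c'.snd ((Category.id_comp _).trans e), (hbij _).1 ?_,
      (Pt.res ψ c'.fst).x_q _ _ _ _ _⟩
    exact (hwl _).trans (eq_ptOf s _ _ c'.snd e ((Category.id_comp _).trans e) rfl).symm
  refine ⟨⟨hw⟩, ⟨PullbackCone.IsLimit.mk _ (fun c' => (hlx c').choose) (fun c' => (hlx c').choose_spec.1)
    (fun c' => (hlx c').choose_spec.2) fun c' m h₁ h₂ => ?_⟩⟩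
  refine ptOf_injective s ?_ (h₂.trans (hlx c').choose_spec.2.symm)
  rw [← hwl, ← hwl, h₁, (hlx c').choose_spec.1]

end Groth.Agent.BGFpqcLib
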