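import Groth.Agent.BGFpqcLib.Rep
import Groth.Agent.RepOne.Desc
import Groth.Agent.DecSec.QuotFib
/-!
Torsors under an affine group scheme form a stack for the fpqc topology.
-/

set_option autoImplicit false
set_option backward.isDefEq.respectTransparency false
set_option backward.isDefEq.respectTransparency.types false
set_option linter.style.haveILetI false

universe u

open CategoryTheory CategoryTheory.Limits MonoidalCategory CartesianMonoidalCategory AlgebraicGeometry Opposite

namespace Groth.Agent.BGFpqcLib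

open Groth.Agent.RepOne

variable {S : Scheme.{u}} {G : Over S} [GrpObj G]

/-- Torsors for the fpqc topology. -/
noncomputable abbrev BGf (G : Over S) [GrpObj G] : AlgSt.Cat S := AlgSt.BG Scheme.fpqcPrecoverage G

/-- The projection of a torsor under an affine group scheme is affine. -/
theorem isAffineHom_π [IsAffineHom G.hom] (A : AlgSt.QuotObj Scheme.fpqcPrecoverage G (AlgSt.trivAction G)) :
    IsAffineHom A.π.left := by
  obtain ⟨R, hR, hsec⟩ := A.loc
  obtain ⟨J₀, Y, f, rfl⟩ := R.exists_eq_ofArrows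
  let E0 : PreZeroHypercover A.base.left := { I₀ := J₀, X := Y, f := f }
  obtain ⟨hq0, hfl⟩ := (HTopV.mem_fpqc_iff E0).mp hR
  haveI := hq0
  let E := QuasiCompactCover.ulift E0
  have hE : E.presieve₀ ∈ Scheme.fpqcPrecoverage A.base.left :=
    (HTopV.mem_fpqc_iff E).mpr ⟨inferInstanceAs (QuasiCompactCover (QuasiCompactCover.ulift E0)), fun i => hfl _⟩
  have hs : ∀ i : E.I₀, ∃ s : E.X i ⟶ A.P.left, s ≫ A.π.left = E.f i := fun i => hsec _ (Presieve.ofArrows.mk _)
  choose s hs using hs
  let p : ∐ E.X ⟶ A.base.left := Sigma.desc E.f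
  haveI : SchDesc.IsFpqc p := SchDesc.isFpqc_sigmaDesc (X := E.X) (f := E.f) hE
  let T : Over S := Over.mk (p ≫ A.base.hom)
  have hσ : Sigma.desc s ≫ A.π.left = p := Sigma.hom_ext _ _ fun i => by simp [p, hs]
  let σ : T ⟶ A.P := Over.homMk (Sigma.desc s) (by
    change Sigma.desc s ≫ A.P.hom = p ≫ A.base.hom
    rw [← Over.w A.π, ← hσ, Category.assoc])
  have h : IsPullback ((G ◁ σ) ≫ A.act.act).left (snd G T).left A.π.left p := by
    have h := (DecSec.QuotSch.isPullback_triv A σ).map (Over.forget S)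
    change IsPullback _ _ _ (σ ≫ A.π).left at h
    rwa [show (σ ≫ A.π).left = p from hσ] at h
  refine TorsorDesc.prop_of_isFpqc @IsAffineHom FpqcDesc.isAffineHom_descends A.π.left p ?_
  rw [← h.isoPullback_inv_snd]
  haveI : IsAffineHom (snd G T).left :=
    MorphismProperty.pullback_snd (P := @IsAffineHom) G.hom T.hom ‹IsAffineHom G.hom›
  exact inferInstanceAs (IsAffineHom (_ ≫ (snd G T).left))

variable {U : Over S} {R : Sieve U}

/-- A scheme glued from a datum. -/
structure IsGl (D : Datum R) {P : Over S} (r : P ⟶ U) (jj : ∀ a, D.F a ⟶ P) : Prop where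
  nat : ∀ {a b : R.arrows.category} (m : a ⟶ b), D.map m ≫ jj b = jj a
  cart : ∀ a : R.arrows.category, IsPullback (jj a) (D.q a) r a.obj.hom

variable {D : Datum R} {P : Over S} {r : P ⟶ U} {jj : ∀ a, D.F a ⟶ P}

theorem IsGl.exists_factor (h : IsGl D r jj) {W : Over S} (k : W ⟶ P) (hk : R (k ≫ r)) :
    ∃ l : W ⟶ D.F (mem (k ≫ r) hk), l ≫ jj _ = k ∧ l ≫ D.q _ = 𝟙 W :=
  ⟨(h.cart (mem (k ≫ r) hk)).lift k (𝟙 W) (Category.id_comp _).symm, (h.cart _).lift_fst _ _ _,
    (h.cart _).lift_snd _ _ _⟩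

theorem IsGl.hom_ext (h : IsGl D r jj) (hR : R ∈ J S U) {Y : Over S} {f g : P ⟶ Y}
    (e : ∀ a, jj a ≫ f = jj a ≫ g) : f = g :=
  hom_ext_sieve ((J S).pullback_stable r hR) fun W k hk => by
    obtain ⟨l, hl, -⟩ := h.exists_factor k hk
    rw [← hl, Category.assoc, e, Category.assoc]

theorem IsGl.existsUnique_desc (h : IsGl D r jj) (hR : R ∈ J S U) {Y : Over S} (f : ∀ a, D.F a ⟶ Y)
    (hf : ∀ {a b : R.arrows.category} (m : a ⟶ b), D.map m ≫ f b = f a) : ∃! g : P ⟶ Y, ∀ a, jj a ≫ g = f a := by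
  have hfac : ∀ {W : Over S} (k : W ⟶ P) (hk : R (k ≫ r)),
      ∃ l : W ⟶ D.F (mem (k ≫ r) hk), l ≫ jj _ = k ∧ l ≫ D.q _ = 𝟙 W := fun k hk => h.exists_factor k hk
  choose l hl hlq using @hfac
  have hind : ∀ {W : Over S} (k : W ⟶ P) (hk : R (k ≫ r)) (a : R.arrows.category) (l' : W ⟶ D.F a),
      l' ≫ jj a = k → l k hk ≫ f _ = l' ≫ f a := by
    intro W k hk a l' hl'
    let m : mem (k ≫ r) hk ⟶ a := memHom (l' ≫ D.q a) (by
      rw [Category.assoc, ← (h.cart a).w, reassoc_of% hl'])
    have : l k hk ≫ D.map m = l' := (h.cart a).hom_ext (by rw [Category.assoc, h.nat, hl, hl'])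
      (by rw [Category.assoc, (D.cart m).w, ← Category.assoc, hlq]; exact Category.id_comp _)
    rw [← this, Category.assoc, hf]
  obtain ⟨g, hg, -⟩ := existsUnique_glue ((J S).pullback_stable r hR) (fun W k hk => l k hk ≫ f _)
    (fun W W' k hk j => by
      rw [← Category.assoc]
      exact (hind _ _ _ (j ≫ l k hk) (by rw [Category.assoc, hl])).symm)
  refine ⟨g, fun a => ?_, fun g' hg' => h.hom_ext hR fun a => ?_⟩
  · refine hom_ext_sieve ((J S).pullback_stable (jj a ≫ r) hR) fun W k hk => ?_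
    have hk' : R ((k ≫ jj a) ≫ r) := by rw [Category.assoc]; exact hk
    rw [← Category.assoc, hg _ hk']
    exact hind _ _ a k rfl
  · rw [hg', hom_ext_sieve ((J S).pullback_stable (jj a ≫ r) hR) (a := f a) (b := jj a ≫ g) fun W k hk => ?_]
    have hk' : R ((k ≫ jj a) ≫ r) := by rw [Category.assoc]; exact hk
    rw [← Category.assoc k (jj a), hg _ hk']
    exact (hind _ _ a k rfl).symm

/-- The datum of products with a scheme over `S`. -/
noncomputable def tens (D : Datum R) (Y : Over S) : Datum R where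
  F a := Y ⊗ D.F a
  q a := snd Y (D.F a) ≫ D.q a
  map m := Y ◁ D.map m
  cart m := (IsPullback.of_right (by simpa using AlgSt.isPullback_fst_snd Y _) (by simp)
    (AlgSt.isPullback_fst_snd Y _)).paste_vert (D.cart m)
  map_comp m n := by rw [D.map_comp, MonoidalCategory.whiskerLeft_comp]

theorem IsGl.tens (h : IsGl D r jj) (Y : Over S) :
    IsGl (BGFpqcLib.tens D Y) (snd Y P ≫ r) (fun a => Y ◁ jj a) where
  nat {a b} m := by
    change (Y ◁ D.map m) ≫ _ = _
    rw [← MonoidalCategory.whiskerLeft_comp, h.nat]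
  cart a := (IsPullback.of_right (by simpa using AlgSt.isPullback_fst_snd Y _) (by simp)
    (AlgSt.isPullback_fst_snd Y _)).paste_vert (h.cart a)

theorem isPullback_extend {P X A C A' C' : Over S} {fst : P ⟶ X} {snd : P ⟶ A} {f : X ⟶ C} {g : A ⟶ C}
    (h : IsPullback fst snd f g) (α : A ⟶ A') [IsIso α] (β : C ⟶ C') [IsIso β] {g' : A' ⟶ C'}
    (w : g ≫ β = α ≫ g') : IsPullback fst (snd ≫ α) (f ≫ β) g' :=
  h.paste_vert (IsPullback.of_vert_isIso ⟨w⟩)

variable (d : Stk.sieveCat R ⥤ᵇ BGf G)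

theorem datum_map_base {s t : (Stk.sieveCat R).obj} (m : s ⟶ t) :
    (d.map m).base = eqToHom (d.w_obj s) ≫ m.hom.left ≫ eqToHom (d.w_obj t).symm :=
  ASt.map_w d m

/-- The schemes of a descent datum of torsors. -/
@[reducible] noncomputable def torDatum : Datum R where
  F s := (d.obj s).P
  q s := (d.obj s).π ≫ eqToHom (d.w_obj s)
  map m := (d.map m).top
  cart {s t} m := isPullback_extend (d.map m).cart _ _ (by rw [datum_map_base]; simp)
  map_comp m n := by
    change (d.toFunctor.map (m ≫ n)).top = _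
    rw [d.toFunctor.map_comp]
    rfl

variable {d}

theorem isGl_cone (c : SCone d) :
    IsGl (torDatum d) (c.pt.π ≫ eqToHom c.base) (fun s => (c.ι s).top) where
  nat m := congrArg (fun k => k.top) (c.nat m)
  cart s := isPullback_extend (c.ι s).cart _ _ (by
    rw [show (c.ι s).base = _ from c.map_ι s]
    simp)

theorem sConeUniq (hR : R ∈ J S U) (c c' : SCone d) :
    ∃! h : c.pt ⟶ c'.pt, (BGf G).p.map h = eqToHom (c.base.trans c'.base.symm) ∧ ∀ s, c.ι s ≫ h = c'.ι s := by
  have hg := isGl_cone c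
  have hg' := isGl_cone c'
  obtain ⟨t, ht, -⟩ := hg.existsUnique_desc hR (fun s => (c'.ι s).top)
    fun m => congrArg (fun k => k.top) (c'.nat m)
  obtain ⟨t', ht', -⟩ := hg'.existsUnique_desc hR (fun s => (c.ι s).top)
    fun m => congrArg (fun k => k.top) (c.nat m)
  have h1 : t ≫ t' = 𝟙 _ := hg.hom_ext hR fun s => by rw [← Category.assoc, ht, ht', Category.comp_id]
  have h2 : t' ≫ t = 𝟙 _ := hg'.hom_ext hR fun s => by rw [← Category.assoc, ht', ht, Category.comp_id]
  haveI : IsIso t := ⟨t', h1, h2⟩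
  let e : c.pt.base ⟶ c'.pt.base := eqToHom (c.base.trans c'.base.symm)
  haveI : IsIso e := inferInstance
  have hπ : t ≫ c'.pt.π = c.pt.π ≫ e := by
    rw [← cancel_mono (eqToHom c'.base)]
    refine hg.hom_ext hR fun s => ?_
    simp only [Category.assoc]
    rw [reassoc_of% ht]
    refine ((hg'.cart s).w).trans ((hg.cart s).w.symm.trans ?_)
    simp [e]
  let h : c.pt ⟶ c'.pt :=
    { base := e
      top := t
      eqv := (hg.tens G).hom_ext hR fun s => by
        rw [← Category.assoc, ← (c.ι s).eqv, Category.assoc, ht, (c'.ι s).eqv,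
          ← MonoidalCategory.whiskerLeft_comp_assoc, ht]
      cart := IsPullback.of_horiz_isIso ⟨hπ⟩
      wφ := toUnit_unique _ _ }
  refine ⟨h, ⟨rfl, fun s => AlgSt.QuotObj.hom_ext ?_ (ht s)⟩, fun h' hh' => ?_⟩
  · change (c.ι s).base ≫ e = (c'.ι s).base
    rw [show (c.ι s).base = _ from c.map_ι s, show (c'.ι s).base = _ from c'.map_ι s]
    simp [e]
  · refine AlgSt.QuotObj.hom_ext hh'.1 (hg.hom_ext hR fun s => ?_)
    change _ = (c.ι s).top ≫ t
    rw [ht]
    exact congrArg (fun k => k.top) (hh'.2 s)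

theorem sGlue [IsAffineHom G.hom] (hR : R ∈ J S U) : Nonempty (SCone d) := by
  obtain ⟨P, π, ψ, jj, -, hψt, hbij, hι, hcart⟩ := exists_rep (D := torDatum d) hR fun s => by
    haveI := isAffineHom_π (d.obj s)
    change IsAffineHom ((d.obj s).π ≫ eqToHom (d.w_obj s)).left
    exact inferInstanceAs (IsAffineHom ((d.obj s).π.left ≫ (eqToHom (d.w_obj s)).left))
  have hg : IsGl (torDatum d) π jj :=
    { cart := hcart
      nat := fun {s t} m => (hbij _).1 (by
        change ψ.res _ = ψ.res _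
        rw [← Pt.res_res, hι, ptOf_res, Category.comp_id, hι]
        exact (congrArg (ptOf t) (Category.id_comp _).symm).trans (ptOf_map m (𝟙 _))) }
  have hG := hg.tens G
  obtain ⟨a, ha, -⟩ := hG.existsUnique_desc hR (fun s => (d.obj s).act.act ≫ jj s) (fun {s t} m => by
    change (G ◁ (d.map m).top) ≫ _ = _
    rw [← Category.assoc, ← (d.map m).eqv, Category.assoc]
    exact congrArg ((d.obj s).act.act ≫ ·) (hg.nat m))
  let act : AlgGrp.Action G P :=
    { act := a
      one_act := (hg.tens (𝟙_ (Over S))).hom_ext hR fun s => by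
        rw [← Category.assoc, whisker_exchange, Category.assoc, ha, ← Category.assoc, (d.obj s).act.one_act,
          leftUnitor_hom, leftUnitor_hom, whiskerLeft_snd]
      mul_act := (hg.tens (G ⊗ G)).hom_ext hR fun s => by
        rw [← Category.assoc, whisker_exchange, Category.assoc, ha, ← Category.assoc, (d.obj s).act.mul_act,
          associator_naturality_right_assoc, ← MonoidalCategory.whiskerLeft_comp_assoc, ha]
        simp only [Category.assoc, MonoidalCategory.whiskerLeft_comp]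
        rw [ha] }
  have hιπ : ∀ s, jj s ≫ π = (d.obj s).π ≫ eqToHom (d.w_obj s) ≫ s.obj.hom := fun s =>
    (hcart s).w.trans (Category.assoc _ _ _)
  have hw : a ≫ π = snd G P ≫ π := hG.hom_ext hR fun s => by
    rw [← Category.assoc, ha, whiskerLeft_snd_assoc, Category.assoc, hιπ]
    change (d.obj s).act.act ≫ _ = snd G (d.obj s).P ≫ _
    rw [reassoc_of% (d.obj s).cart.w]
  have key : ∀ {W : Over S} (p₁ p₂ : W ⟶ P), p₁ ≫ π = p₂ ≫ π → ∀ hk : R (p₂ ≫ π),
      ∃! g : W ⟶ G, lift g p₂ ≫ a = p₁ := by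
    intro W p₁ p₂ e hk
    let s : (Stk.sieveCat R).obj := mem (p₂ ≫ π) hk
    let l₁ := (hcart s).lift p₁ (𝟙 W) (e.trans (Category.id_comp _).symm)
    let l₂ := (hcart s).lift p₂ (𝟙 W) (Category.id_comp _).symm
    have h₁ : l₁ ≫ jj s = p₁ := (hcart s).lift_fst _ _ _
    have h₂ : l₂ ≫ jj s = p₂ := (hcart s).lift_fst _ _ _
    have q₁ : l₁ ≫ (torDatum d).q s = 𝟙 W := (hcart s).lift_snd _ _ _
    have q₂ : l₂ ≫ (torDatum d).q s = 𝟙 W := (hcart s).lift_snd _ _ _
    have hπ' : l₁ ≫ (d.obj s).π = l₂ ≫ (d.obj s).π := by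
      rw [← cancel_mono (eqToHom (d.w_obj s)), Category.assoc, Category.assoc]
      exact q₁.trans q₂.symm
    let z := (d.obj s).cart.lift l₁ l₂ hπ'
    have hz : ∀ g : W ⟶ G, lift g p₂ ≫ a = (lift g l₂ ≫ (d.obj s).act.act) ≫ jj s := fun g => by
      rw [Category.assoc, ← ha, ← Category.assoc, lift_whiskerLeft, h₂]
    refine ⟨z ≫ fst _ _, ?_, fun g hg' => ?_⟩
    · beta_reduce
      rw [hz]
      have : lift (z ≫ fst _ _) l₂ = z := CartesianMonoidalCategory.hom_ext _ _ (by simp)
        (by rw [lift_snd]; exact ((d.obj s).cart.lift_snd _ _ _).symm)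
      rw [this]
      exact (congrArg (· ≫ jj s) ((d.obj s).cart.lift_fst _ _ _)).trans h₁
    · have h3 : lift g l₂ ≫ (d.obj s).act.act = l₁ := by
        refine (hcart s).hom_ext ((hz g).symm.trans (hg'.trans h₁.symm)) ?_
        rw [q₁, Category.assoc]
        change lift g l₂ ≫ (d.obj s).act.act ≫ (d.obj s).π ≫ _ = _
        rw [reassoc_of% (d.obj s).cart.w]
        exact (lift_snd_assoc _ _ _).trans q₂
      have h4 : lift g l₂ = z := (d.obj s).cart.hom_ext (h3.trans ((d.obj s).cart.lift_fst _ _ _).symm)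
        ((lift_snd _ _).trans ((d.obj s).cart.lift_snd _ _ _).symm)
      rw [← h4]
      exact (lift_fst _ _).symm
  have hex : ∀ c : PullbackCone π π, ∃! g : c.pt ⟶ G, lift g c.snd ≫ a = c.fst := by
    intro c
    have hT : R.pullback (c.snd ≫ π) ∈ J S c.pt := (J S).pullback_stable _ hR
    have hk : ∀ ⦃W : Over S⦄ (k : W ⟶ c.pt), (R.pullback (c.snd ≫ π)) k →
        ∃! g : W ⟶ G, lift g (k ≫ c.snd) ≫ a = k ≫ c.fst := fun W k hk =>
      key _ _ (by rw [Category.assoc, c.condition, Category.assoc]) (by rw [Category.assoc]; exact hk)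
    choose g hg₁ hg₂ using hk
    obtain ⟨g₀, hg₀, hg₀u⟩ := existsUnique_glue hT g fun W W' k hk j => by
      refine hg₂ _ _ _ ?_
      beta_reduce
      rw [Category.assoc j k, ← comp_lift, Category.assoc, hg₁, Category.assoc]
    refine ⟨g₀, hom_ext_sieve hT fun W k hk => ?_, fun g' hg' => hg₀u g' fun W k hk => hg₂ k hk _ ?_⟩
    · rw [← Category.assoc, comp_lift, hg₀ k hk, hg₁]
    · beta_reduce
      rw [← comp_lift, Category.assoc, hg']
  have hcart' : IsPullback a (snd G P) π π :=
    ⟨⟨hw⟩, ⟨PullbackCone.IsLimit.mk _ (fun c => lift (hex c).choose c.snd) (fun c => (hex c).choose_spec.1)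
      (fun c => lift_snd _ _) fun c m h₁ h₂ => by
        have : m ≫ fst G P = (hex c).choose := (hex c).choose_spec.2 _ (by
          rw [← h₁]
          congr 1
          exact CartesianMonoidalCategory.hom_ext _ _ (lift_fst _ _) ((lift_snd _ _).trans h₂.symm))
        exact CartesianMonoidalCategory.hom_ext _ _ (by rw [lift_fst]; exact this) (by rw [lift_snd]; exact h₂)⟩⟩
  have hloc : NonAbH1.IsLocallyTrivialFor Scheme.fpqcPrecoverage (Over.mk π.left : Over U.left) := by
    obtain ⟨I, Xs, f, hf, hfR⟩ := exists_family hR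
    let s : I → (Stk.sieveCat R).obj := fun i => mem (Over.homMk (f i) rfl : Over.mk (f i ≫ U.hom) ⟶ U) (hfR i)
    choose Ri hRi hsec using fun i => (d.obj (s i)).loc
    choose Ji Yi gi hgi using fun i => Presieve.exists_eq_ofArrows (Ri i)
    let e : ∀ i, (d.obj (s i)).base.left ⟶ Xs i := fun i => (eqToHom (d.w_obj (s i))).left
    have hmem : Presieve.ofArrows (fun p : Σ q : (Σ _ : I, PUnit.{u + 1}), Ji q.1 => Yi p.1.1 p.2)
        (fun p => gi p.1.1 p.2 ≫ e p.1.1 ≫ f p.1.1) ∈ Scheme.fpqcPrecoverage U.left := by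
      refine Precoverage.comp_mem_coverings (fun q : (Σ _ : I, PUnit.{u + 1}) => e q.1 ≫ f q.1) ?_
        (fun q j => gi q.1 j) fun q => ?_
      · exact Precoverage.comp_mem_coverings (σ := fun _ => PUnit.{u + 1}) f hf (fun i _ => e i) fun i => by
          haveI : IsIso (e i) := (inferInstance : IsIso ((Over.forget S).map (eqToHom (d.w_obj (s i)))))
          rw [Presieve.ofArrows_pUnit]
          exact Precoverage.mem_coverings_of_isIso _
      · exact hgi q.1 ▸ hRi q.1
    refine ⟨_, hmem, ?_⟩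
    rintro _ _ ⟨⟨⟨i, _⟩, j⟩⟩
    obtain ⟨σ, hσ⟩ := hsec i (gi i j) (hgi i ▸ Presieve.ofArrows.mk j)
    refine ⟨σ ≫ (jj (s i)).left, ?_⟩
    change (σ ≫ (jj (s i)).left) ≫ π.left = gi i j ≫ e i ≫ f i
    rw [Category.assoc, ← Over.comp_left, hιπ, Over.comp_left, ← Category.assoc]
    exact congrArg₂ (· ≫ ·) hσ rfl
  let pt : AlgSt.QuotObj Scheme.fpqcPrecoverage G (AlgSt.trivAction G) :=
    { base := U
      P := P
      act := act
      π := π
      cart := hcart'
      loc := hloc
      φ := toUnit P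
      eqv := toUnit_unique _ _ }
  let cι : ∀ s, d.obj s ⟶ pt := fun s =>
    { base := eqToHom (d.w_obj s) ≫ s.obj.hom
      top := jj s
      eqv := (ha s).symm
      cart := by
        have h := isPullback_extend (hcart s) (eqToHom (d.w_obj s).symm) (𝟙 U)
          (g' := eqToHom (d.w_obj s) ≫ s.obj.hom) (by simp)
        rw [Category.comp_id, show (torDatum d).q s = (d.obj s).π ≫ eqToHom (d.w_obj s) from rfl] at h
        simpa using h
      wφ := toUnit_unique _ _ }
  exact ⟨{ pt := pt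
           base := rfl
           ι := cι
           map_ι := fun s => (Category.comp_id _).symm.trans (Category.assoc _ _ _)
           nat := fun {s t} m => AlgSt.QuotObj.hom_ext (by
             change (d.map m).base ≫ eqToHom (d.w_obj t) ≫ t.obj.hom = eqToHom (d.w_obj s) ≫ s.obj.hom
             rw [datum_map_base]
             simp [Over.w m.hom]) (hg.nat m) }⟩

/-- Torsors under an affine group scheme form an fpqc stack. -/
theorem isStack_BG [IsAffineHom G.hom] : Stk.IsStack (J S) (BGf G) :=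
  haveI : FibCat.IsFibGrpd (BGf G).p := DecSec.QuotSch.isFibGrpd_quot
  isStack_iff.2 fun _ _ hR => ⟨fun _ c c' => sConeUniq hR c c', fun _ => sGlue hR⟩

end Groth.Agent.BGFpqcLib
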